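import Mathlib.RingTheory.Polynomial.Wronskian
import Mathlib.RingTheory.Valuation.LocalSubring
import Mathlib.FieldTheory.IsAlgClosed.AlgebraicClosure
import Mathlib.RingTheory.Polynomial.Basic
import Mathlib.RingTheory.IntegralClosure.IsIntegralClosure.Basic
import Mathlib.RingTheory.Ideal.MinimalPrime.Noetherian
import Mathlib.RingTheory.FiniteType
import Mathlib.Algebra.Polynomial.Derivative
import Mathlib.LinearAlgebra.FreeModule.Finite.Matrix

/-!
# Finiteness of the pencils with a given Wronskian
-/

set_option autoImplicit false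
set_option linter.all false
set_option backward.isDefEq.respectTransparency false

universe u

open Polynomial

namespace GrothLib.WronskFib10

/-- The first normalised polynomial with the given coefficients. -/
noncomputable def fPoly {R : Type u} [CommRing R] {m : ℕ} (c : Fin 2 × Fin m → R) : R[X] :=
  X ^ (m + 1) + ∑ i : Fin m, C (c (0, i)) * X ^ (i : ℕ)

/-- The second normalised polynomial with the given coefficients. -/
noncomputable def gPoly {R : Type u} [CommRing R] {m : ℕ} (c : Fin 2 × Fin m → R) : R[X] :=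
  X ^ m + ∑ i : Fin m, C (c (1, i)) * X ^ (i : ℕ)

variable {R S : Type u} [CommRing R] [CommRing S] {m : ℕ}

theorem sum_coeff (f : Fin m → R) (n : ℕ) :
    (∑ i : Fin m, C (f i) * X ^ (i : ℕ)).coeff n = if h : n < m then f ⟨n, h⟩ else 0 := by
  rw [finset_sum_coeff]
  simp only [coeff_C_mul_X_pow]
  split
  case isTrue h =>
    rw [Finset.sum_eq_single ⟨n, h⟩]
    · simp
    · intro i _ hi
      rw [if_neg]
      exact fun e => hi (Fin.ext e.symm)
    · simp
  case isFalse h =>
    refine Finset.sum_eq_zero fun i _ => if_neg ?_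
    omega

theorem coeff_fPoly (c : Fin 2 × Fin m → R) (n : ℕ) :
    (fPoly c).coeff n = (if n = m + 1 then 1 else 0) + if h : n < m then c (0, ⟨n, h⟩) else 0 := by
  rw [fPoly, coeff_add, coeff_X_pow, sum_coeff (fun i => c (0, i))]

theorem coeff_gPoly (c : Fin 2 × Fin m → R) (n : ℕ) :
    (gPoly c).coeff n = (if n = m then 1 else 0) + if h : n < m then c (1, ⟨n, h⟩) else 0 := by
  rw [gPoly, coeff_add, coeff_X_pow, sum_coeff (fun i => c (1, i))]

theorem map_fPoly (f : R →+* S) (c : Fin 2 × Fin m → R) : (fPoly c).map f = fPoly (f ∘ c) := by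
  simp [fPoly, Polynomial.map_sum]

theorem map_gPoly (f : R →+* S) (c : Fin 2 × Fin m → R) : (gPoly c).map f = gPoly (f ∘ c) := by
  simp [gPoly, Polynomial.map_sum]

theorem map_wronskian (f : R →+* S) (a b : R[X]) :
    (wronskian a b).map f = wronskian (a.map f) (b.map f) := by
  simp [wronskian, derivative_map]

theorem coeff_X_mul_derivative (p : R[X]) (n : ℕ) : (X * derivative p).coeff n = (n : R) * p.coeff n := by
  cases n with
  | zero => simp
  | succ n => rw [coeff_X_mul, coeff_derivative, mul_comm]; push_cast; ring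

theorem coeff_X_mul_wronskian (a b : R[X]) (N : ℕ) :
    (X * wronskian a b).coeff N =
      ∑ x ∈ Finset.antidiagonal N, ((x.2 : R) - (x.1 : R)) * (a.coeff x.1 * b.coeff x.2) := by
  have h : X * wronskian a b = a * (X * derivative b) - (X * derivative a) * b := by
    rw [wronskian]; ring
  rw [h, coeff_sub, coeff_mul, coeff_mul, ← Finset.sum_sub_distrib]
  refine Finset.sum_congr rfl fun x _ => ?_
  rw [coeff_X_mul_derivative, coeff_X_mul_derivative]
  ring

/-- The lowest coefficient of a Wronskian. -/
theorem coeff_wronskian_low (a b : R[X]) (i j : ℕ) (ha : ∀ l < i, a.coeff l = 0) (hb : ∀ l < j, b.coeff l = 0) :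
    (X * wronskian a b).coeff (i + j) = ((j : R) - i) * (a.coeff i * b.coeff j) := by
  rw [coeff_X_mul_wronskian, Finset.sum_eq_single (i, j)]
  · rintro ⟨x, y⟩ hxy hne
    rw [Finset.mem_antidiagonal] at hxy
    rcases lt_trichotomy x i with h | h | h
    · rw [ha x h, zero_mul, mul_zero]
    · subst h; exact (hne (by rw [show y = j by omega])).elim
    · rw [hb y (by omega), mul_zero, mul_zero]
  · simp

/-- The top coefficient of a Wronskian. -/
theorem coeff_wronskian_top (a b : R[X]) (i j : ℕ) (ha : ∀ l, i < l → a.coeff l = 0) (hb : ∀ l, j < l → b.coeff l = 0) :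
    (X * wronskian a b).coeff (i + j) = ((j : R) - i) * (a.coeff i * b.coeff j) := by
  rw [coeff_X_mul_wronskian, Finset.sum_eq_single (i, j)]
  · rintro ⟨x, y⟩ hxy hne
    rw [Finset.mem_antidiagonal] at hxy
    rcases lt_trichotomy x i with h | h | h
    · rw [hb y (by omega), mul_zero, mul_zero]
    · subst h; exact (hne (by rw [show y = j by omega])).elim
    · rw [ha x h, zero_mul, mul_zero]
  · simp

theorem sub_ne_zero_of_cast {K : Type u} [Field K] {N : ℕ} (hK : ∀ j : ℕ, 0 < j → j ≤ N → (j : K) ≠ 0)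
    {i j : ℕ} (hne : i ≠ j) (hi : i ≤ N) (hj : j ≤ N) : (j : K) - i ≠ 0 := by
  rcases lt_or_gt_of_ne hne with h | h
  · have := hK (j - i) (by omega) (by omega)
    rwa [Nat.cast_sub h.le] at this
  · have := hK (i - j) (by omega) (by omega)
    rw [Nat.cast_sub h.le] at this
    intro e
    exact this (by rw [← neg_sub, e, neg_zero])

/-- Only the monomial pencil has a monomial Wronskian. -/
theorem eq_zero_of_wronskian {K : Type u} [Field K] (hK : ∀ j : ℕ, 0 < j → j ≤ m + 1 → (j : K) ≠ 0)
    (c : Fin 2 × Fin m → K) (h : wronskian (fPoly c) (gPoly c) = -X ^ (2 * m)) : c = 0 := by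
  classical
  by_contra hc
  have hex : ∃ i : ℕ, ∃ hi : i < m, c (0, ⟨i, hi⟩) ≠ 0 ∨ c (1, ⟨i, hi⟩) ≠ 0 := by
    obtain ⟨⟨j, i⟩, hji⟩ := Function.ne_iff.1 hc
    refine ⟨i, i.isLt, ?_⟩
    fin_cases j
    · exact Or.inl hji
    · exact Or.inr hji
  obtain ⟨hi0, hne⟩ := Nat.find_spec hex
  let i0 := Nat.find hex
  have hlow : ∀ l < i0, (fPoly c).coeff l = 0 ∧ (gPoly c).coeff l = 0 := by
    intro l hl
    have hl' : l < m := lt_trans hl hi0
    have := Nat.find_min hex hl
    push_neg at this
    obtain ⟨h1, h2⟩ := this hl'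
    rw [coeff_fPoly, coeff_gPoly, if_neg (by omega), if_neg (by omega), dif_pos hl', dif_pos hl', h1, h2]
    simp
  have hf0 : (fPoly c).coeff i0 = c (0, ⟨i0, hi0⟩) := by
    rw [coeff_fPoly, if_neg (show i0 ≠ m + 1 from (Nat.lt_succ_of_lt hi0).ne), zero_add, dif_pos hi0]
  have hg0 : (gPoly c).coeff i0 = c (1, ⟨i0, hi0⟩) := by
    rw [coeff_gPoly, if_neg (ne_of_lt hi0), zero_add, dif_pos hi0]
  let α := c (1, ⟨i0, hi0⟩)
  let β := c (0, ⟨i0, hi0⟩)
  let H := C α * fPoly c - C β * gPoly c
  have hH : H ≠ 0 := by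
    rcases hne with h1 | h1
    · intro e
      have := congrArg (fun q => coeff q m) e
      simp only [H, coeff_sub, coeff_C_mul, coeff_fPoly, coeff_gPoly] at this
      simp at this
      exact h1 this
    · intro e
      have := congrArg (fun q => coeff q (m + 1)) e
      simp only [H, coeff_sub, coeff_C_mul, coeff_fPoly, coeff_gPoly] at this
      simp at this
      exact h1 this
  obtain ⟨Kp, γ, hγ, hKlow, hK0, hW⟩ : ∃ (Kp : K[X]) (γ : K), γ ≠ 0 ∧ (∀ l < i0, Kp.coeff l = 0) ∧ Kp.coeff i0 ≠ 0 ∧
      wronskian H Kp = C γ * wronskian (fPoly c) (gPoly c) := by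
    by_cases hα : α = 0
    · have hβ : β ≠ 0 := hne.resolve_right (not_not.2 hα)
      refine ⟨fPoly c, β, hβ, fun l hl => (hlow l hl).1, by rw [hf0]; exact hβ, ?_⟩
      simp only [H, hα, map_zero, zero_mul, zero_sub, wronskian, derivative_neg, derivative_mul, derivative_C]
      ring
    · refine ⟨gPoly c, α, hα, fun l hl => (hlow l hl).2, by rw [hg0]; exact hα, ?_⟩
      simp only [H, wronskian, derivative_sub, derivative_mul, derivative_C]
      ring
  have hb : ∀ l ≤ i0, H.coeff l = 0 := by
    intro l hl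
    rcases lt_or_eq_of_le hl with hl | rfl
    · simp [H, coeff_C_mul, hlow l hl]
    · simp only [H, coeff_sub, coeff_C_mul, hf0, hg0, α, β]
      ring
  let b := H.natTrailingDegree
  have hb0 : H.coeff b ≠ 0 := coeff_natTrailingDegree_ne_zero.2 hH
  have hib : i0 < b := not_le.1 fun hle => hb0 (hb b hle)
  have hbm : b ≤ m + 1 := by
    by_contra hlt
    refine hb0 ?_
    simp only [H, coeff_sub, coeff_C_mul, coeff_fPoly, coeff_gPoly]
    rw [if_neg (by omega), if_neg (by omega), dif_neg (by omega), dif_neg (by omega)]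
    ring
  have key := coeff_wronskian_low H Kp b i0 (fun l hl => coeff_eq_zero_of_lt_natTrailingDegree hl) hKlow
  rw [hW, h, show X * (C γ * -X ^ (2 * m)) = -(C γ * X ^ (2 * m + 1)) by ring, coeff_neg, coeff_C_mul_X_pow,
    if_neg (show b + i0 ≠ 2 * m + 1 by omega), neg_zero] at key
  exact mul_ne_zero (sub_ne_zero_of_cast hK (by omega) hbm (by omega)) (mul_ne_zero hb0 hK0) key.symm

theorem wronskian_comp (a b h : R[X]) :
    wronskian (a.comp h) (b.comp h) = derivative h * (wronskian a b).comp h := by
  simp only [wronskian, derivative_comp, sub_comp, mul_comp]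
  ring

/-- The weight of a coefficient. -/
def wt (a : Fin 2 × Fin m) : ℕ := m + 1 - a.1.val - a.2.val

theorem fPoly_comp {L : Type u} [Field L] {t : L} (ht : t ≠ 0) (c : Fin 2 × Fin m → L) :
    (fPoly c).comp (C t * X) = C (t ^ (m + 1)) * fPoly fun a => c a / t ^ wt a := by
  ext n
  rw [comp_C_mul_X_coeff, coeff_C_mul, coeff_fPoly, coeff_fPoly]
  by_cases h : n < m
  · rw [dif_pos h, dif_pos h, if_neg (by omega), zero_add, zero_add,
      show t ^ (m + 1) = t ^ n * t ^ wt ((0 : Fin 2), (⟨n, h⟩ : Fin m)) by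
        rw [← pow_add]; congr 1; simp [wt]; omega]
    field_simp
  · rw [dif_neg h, dif_neg h]
    split
    case isTrue h' => subst h'; simp
    case isFalse => simp

theorem gPoly_comp {L : Type u} [Field L] {t : L} (ht : t ≠ 0) (c : Fin 2 × Fin m → L) :
    (gPoly c).comp (C t * X) = C (t ^ m) * gPoly fun a => c a / t ^ wt a := by
  ext n
  rw [comp_C_mul_X_coeff, coeff_C_mul, coeff_gPoly, coeff_gPoly]
  by_cases h : n < m
  · rw [dif_pos h, dif_pos h, if_neg (by omega), zero_add, zero_add,
      show t ^ m = t ^ n * t ^ wt ((1 : Fin 2), (⟨n, h⟩ : Fin m)) by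
        rw [← pow_add]; congr 1; simp [wt]; omega]
    field_simp
  · rw [dif_neg h, dif_neg h]
    split
    case isTrue h' => subst h'; simp
    case isFalse => simp

variable {k : Type u} [Field k]

/-- Coefficients of a pencil with given Wronskian in an algebraically closed field are algebraic. -/
theorem isIntegral_coeff (hk : ∀ j : ℕ, 0 < j → j ≤ m + 1 → (j : k) ≠ 0) {L : Type u} [Field L] [IsAlgClosed L]
    [Algebra k L] (W0 : k[X]) (hW0 : W0.Monic) (hdeg : W0.natDegree = 2 * m) (c : Fin 2 × Fin m → L)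
    (h : wronskian (fPoly c) (gPoly c) = -W0.map (algebraMap k L)) (a : Fin 2 × Fin m) : IsIntegral k (c a) := by
  classical
  by_contra hni
  obtain ⟨V, hkV, hV⟩ : ∃ V : ValuationSubring L, (∀ r : k, algebraMap k L r ∈ V) ∧ c a ∉ V := by
    by_contra hV
    push_neg at hV
    refine hni ?_
    have hmem : c a ∈ (integralClosure (Subring.closure (Set.range (algebraMap k L))) L).toSubring := by
      rw [← iInf_valuationSubring_superset, Subring.mem_iInf]
      exact fun V => hV V.1 fun r => V.2 ⟨r, rfl⟩
    let R0 := Subring.closure (Set.range (algebraMap k L))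
    let φ : k →+* R0 := (algebraMap k L).codRestrict R0 fun r => Subring.subset_closure ⟨r, rfl⟩
    letI := φ.toAlgebra
    haveI : IsScalarTower k R0 L := IsScalarTower.of_algebraMap_eq fun _ => rfl
    haveI : Algebra.IsIntegral k R0 := ⟨fun y => by
      obtain ⟨r, hr⟩ : (y : L) ∈ Set.range (algebraMap k L) := by
        have hR : R0 = (algebraMap k L).range := by
          simp only [R0, ← RingHom.coe_range, Subring.closure_eq]
        exact (SetLike.ext_iff.1 hR (y : L)).1 y.2
      rw [show y = algebraMap k R0 r from Subtype.ext hr.symm]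
      exact isIntegral_algebraMap⟩
    exact isIntegral_trans (c a) hmem
  have hwt : ∀ b : Fin 2 × Fin m, 0 < wt b := fun b => by
    have := b.1.isLt; have := b.2.isLt; simp only [wt]; omega
  choose μ hμ using fun b => IsAlgClosed.exists_pow_nat_eq (c b) (hwt b)
  haveI : Nonempty (Fin 2 × Fin m) := ⟨a⟩
  obtain ⟨b, -, hb⟩ := Finset.exists_max_image Finset.univ (fun b => V.valuation (μ b)) Finset.univ_nonempty
  let t := μ b
  have ht1 : 1 < V.valuation t := by
    refine lt_of_lt_of_le ?_ (hb a (Finset.mem_univ _))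
    by_contra hle
    rw [not_lt, V.valuation_le_one_iff] at hle
    exact hV (hμ a ▸ pow_mem hle _)
  have ht : t ≠ 0 := fun h0 => by simp [h0] at ht1
  let c' : Fin 2 × Fin m → L := fun x => c x / t ^ wt x
  have hc' : ∀ x, c' x ∈ V := fun x => by
    rw [← V.valuation_le_one_iff, map_div₀, map_pow, ← hμ x, map_pow,
      div_le_one₀ (pow_pos (zero_lt_one.trans ht1) _)]
    exact pow_le_pow_left₀ zero_le (hb x (Finset.mem_univ _)) _
  have hc'b : c' b = 1 := by
    show c b / t ^ wt b = 1
    rw [← hμ b]
    exact div_self (pow_ne_zero _ ht)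
  let W' := wronskian (fPoly c') (gPoly c')
  have hcoef : ∀ n, t ^ (2 * m) * W'.coeff n = -((algebraMap k L (W0.coeff n)) * t ^ n) := by
    intro n
    have e := wronskian_comp (fPoly c) (gPoly c) (C t * X)
    rw [fPoly_comp ht, gPoly_comp ht, h] at e
    have e' : C (t ^ (m + 1) * t ^ m) * W' = C t * (-W0.map (algebraMap k L)).comp (C t * X) := by
      refine Eq.trans ?_ (e.trans ?_)
      · simp only [W', wronskian, derivative_mul, derivative_C, c', map_mul]
        ring
      · simp [derivative_mul]
    have e'' := congrArg (fun q => coeff q n) e'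
    simp only [coeff_C_mul, comp_C_mul_X_coeff, coeff_neg, coeff_map] at e''
    apply mul_left_cancel₀ ht
    calc t * (t ^ (2 * m) * W'.coeff n) = t ^ (m + 1) * t ^ m * W'.coeff n := by ring
      _ = _ := by rw [e'']; ring
  let κ := IsLocalRing.ResidueField V
  let res := IsLocalRing.residue V
  let c'' : Fin 2 × Fin m → V := fun x => ⟨c' x, hc' x⟩
  have hmap : (wronskian (fPoly c'') (gPoly c'')).map V.subtype = W' := by
    rw [map_wronskian, map_fPoly, map_gPoly]
    rfl
  have hres : wronskian (fPoly (res ∘ c'')) (gPoly (res ∘ c'')) = -X ^ (2 * m) := by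
    rw [← map_fPoly, ← map_gPoly, ← map_wronskian]
    ext n
    rw [coeff_map, coeff_neg, coeff_X_pow]
    have hn : ((wronskian (fPoly c'') (gPoly c'')).coeff n : L) = W'.coeff n := by
      rw [← hmap, coeff_map]; rfl
    split
    case isTrue h' =>
      subst h'
      have h1 : (wronskian (fPoly c'') (gPoly c'')).coeff (2 * m) = -1 := Subtype.ext <| by
        rw [hn]
        refine mul_left_cancel₀ (pow_ne_zero (2 * m) ht) ((hcoef _).trans ?_)
        rw [← hdeg, coeff_natDegree, hW0.leadingCoeff, map_one]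
        simp
      rw [h1, map_neg, map_one]
    case isFalse h' =>
      rw [neg_zero, IsLocalRing.residue_eq_zero_iff, V.valuation_lt_one_iff]
      show V.valuation ((wronskian (fPoly c'') (gPoly c'')).coeff n : L) < 1
      rw [hn]
      rcases lt_or_gt_of_ne h' with hlt | hgt
      · have := congrArg V.valuation (hcoef n)
        rw [map_mul, Valuation.map_neg, map_mul, map_pow, map_pow] at this
        have hw : V.valuation (algebraMap k L (W0.coeff n)) ≤ 1 := (V.valuation_le_one_iff _).2 (hkV _)
        by_contra hge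
        rw [not_lt] at hge
        have h2 : V.valuation t ^ (2 * m) ≤ V.valuation t ^ n :=
          calc V.valuation t ^ (2 * m) ≤ V.valuation t ^ (2 * m) * V.valuation (W'.coeff n) :=
                le_mul_of_one_le_right' hge
            _ = _ := this
            _ ≤ V.valuation t ^ n := mul_le_of_le_one_left' hw
        exact absurd h2 (not_le.2 (pow_lt_pow_right₀ ht1 hlt))
      · have := hcoef n
        rw [coeff_eq_zero_of_natDegree_lt (p := W0) (by omega), map_zero, zero_mul, neg_zero] at this
        rw [(mul_eq_zero.1 this).resolve_left (pow_ne_zero _ ht), map_zero]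
        exact zero_lt_one
  have hκ : ∀ j : ℕ, 0 < j → j ≤ m + 1 → (j : κ) ≠ 0 := by
    intro j h1 h2
    let ψ : k →+* κ := res.comp ((algebraMap k L).codRestrict V.toSubring hkV)
    rw [← map_natCast ψ]
    exact (map_ne_zero ψ).2 (hk j h1 h2)
  have := congrFun (eq_zero_of_wronskian hκ _ hres) b
  simp only [Function.comp_apply, Pi.zero_apply] at this
  rw [show c'' b = 1 from Subtype.ext hc'b, map_one] at this
  exact one_ne_zero this

/-- Only finitely many normalised pencils have a given Wronskian. -/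
theorem finite_solutions (hk : ∀ j : ℕ, 0 < j → j ≤ m + 1 → (j : k) ≠ 0) (W0 : k[X]) (hW0 : W0.Monic)
    (hdeg : W0.natDegree = 2 * m) :
    {c : Fin 2 × Fin m → k | wronskian (fPoly c) (gPoly c) = -W0}.Finite := by
  classical
  let P := MvPolynomial (Fin 2 × Fin m) k
  let Q : P[X] := wronskian (fPoly (MvPolynomial.X : Fin 2 × Fin m → P)) (gPoly MvPolynomial.X) +
    W0.map (algebraMap k P)
  let I : Ideal P := Ideal.span (Set.range Q.coeff)
  let A := P ⧸ I
  let x : Fin 2 × Fin m → A := fun a => Ideal.Quotient.mk I (MvPolynomial.X a)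
  have hx : wronskian (fPoly x) (gPoly x) = -W0.map (algebraMap k A) := by
    rw [eq_neg_iff_add_eq_zero]
    have h0 : Q.map (Ideal.Quotient.mk I) = 0 := Polynomial.ext fun n => by
      rw [coeff_map, coeff_zero]
      exact Ideal.Quotient.eq_zero_iff_mem.2 (Ideal.subset_span ⟨n, rfl⟩)
    rw [Polynomial.map_add, map_wronskian, map_fPoly, map_gPoly, map_map] at h0
    exact h0
  haveI : Algebra.FiniteType k A := Algebra.FiniteType.of_surjective (Ideal.Quotient.mkₐ k I) Ideal.Quotient.mk_surjective
  haveI : IsNoetherianRing A := inferInstance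
  have hint : ∀ a, IsIntegral k (x a) := by
    intro a
    have hP : ∀ p ∈ minimalPrimes A, ∃ q : k[X], q.Monic ∧ aeval (x a) q ∈ p := by
      intro p hp
      haveI : p.IsPrime := hp.1.1
      let L := AlgebraicClosure (FractionRing (A ⧸ p))
      haveI : IsScalarTower k (A ⧸ p) L := IsScalarTower.of_algebraMap_eq fun r =>
        (IsScalarTower.algebraMap_apply k (FractionRing (A ⧸ p)) L r).trans ((congrArg (algebraMap (FractionRing (A ⧸ p)) L)
          (IsScalarTower.algebraMap_apply k (A ⧸ p) (FractionRing (A ⧸ p)) r)).trans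
            (IsScalarTower.algebraMap_apply (A ⧸ p) (FractionRing (A ⧸ p)) L (algebraMap k (A ⧸ p) r)).symm)
      let ψ : A →ₐ[k] L := (IsScalarTower.toAlgHom k (A ⧸ p) L).comp (Ideal.Quotient.mkₐ k p)
      have h' : wronskian (fPoly (ψ.toRingHom ∘ x)) (gPoly (ψ.toRingHom ∘ x)) = -W0.map (algebraMap k L) := by
        rw [← map_fPoly, ← map_gPoly, ← map_wronskian, hx, Polynomial.map_neg, map_map]
        congr 2
        all_goals first | rfl | exact ψ.comp_algebraMap
      obtain ⟨q, hq, hq0⟩ := isIntegral_coeff hk W0 hW0 hdeg _ h' a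
      refine ⟨q, hq, Ideal.Quotient.eq_zero_iff_mem.1 ?_⟩
      apply (show Function.Injective (algebraMap (A ⧸ p) L) by
        rw [IsScalarTower.algebraMap_eq (A ⧸ p) (FractionRing (A ⧸ p)) L]
        exact (algebraMap (FractionRing (A ⧸ p)) L).injective.comp (IsFractionRing.injective (A ⧸ p) (FractionRing (A ⧸ p))))
      rw [map_zero]
      refine Eq.trans ?_ hq0
      show ψ (aeval (x a) q) = aeval (ψ (x a)) q
      exact (aeval_algHom_apply ψ (x a) q).symm
    choose q hq hq0 using hP
    have hfin : (minimalPrimes A).Finite := minimalPrimes.finite_of_isNoetherianRing A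
    let r := ∏ p ∈ hfin.toFinset.attach, q p.1 (hfin.mem_toFinset.1 p.2)
    have hnil : IsNilpotent (aeval (x a) r) := by
      rw [← mem_nilradical, nilradical, ← Ideal.sInf_minimalPrimes, Ideal.mem_sInf]
      intro p hp
      rw [map_prod]
      exact Ideal.IsPrime.prod_mem_iff (hp := hp.1.1) |>.2 ⟨⟨p, hfin.mem_toFinset.2 hp⟩, Finset.mem_attach _ _, hq0 p hp⟩
    obtain ⟨N, hN⟩ := hnil
    exact ⟨r ^ N, (monic_prod_of_monic _ _ fun p _ => hq _ _).pow N, by rw [← aeval_def, map_pow, hN]⟩
  haveI : Algebra.IsIntegral k A := ⟨fun y => by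
    obtain ⟨y, rfl⟩ := Ideal.Quotient.mk_surjective y
    induction y using MvPolynomial.induction_on with
    | C r => exact isIntegral_algebraMap (x := r)
    | add y z hy hz => rw [map_add]; exact hy.add hz
    | mul_X y a hy => rw [map_mul]; exact hy.mul (hint a)⟩
  haveI : Module.Finite k A := Algebra.IsIntegral.finite
  haveI : Finite (A →ₐ[k] k) := inferInstance
  refine (Set.finite_range fun (φ : A →ₐ[k] k) => φ ∘ x).subset ?_
  intro c hc
  have hI : I ≤ RingHom.ker (MvPolynomial.aeval c : P →ₐ[k] k) := by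
    refine Ideal.span_le.2 ?_
    rintro _ ⟨n, rfl⟩
    rw [SetLike.mem_coe, RingHom.mem_ker]
    show (MvPolynomial.aeval c : P →ₐ[k] k).toRingHom (Q.coeff n) = 0
    rw [← coeff_map, Polynomial.map_add, map_wronskian, map_fPoly, map_gPoly, map_map,
      show (MvPolynomial.aeval c : P →ₐ[k] k).toRingHom.comp (algebraMap k P) = RingHom.id k from
        RingHom.ext fun r => MvPolynomial.aeval_C c r, map_id,
      show (MvPolynomial.aeval c : P →ₐ[k] k).toRingHom ∘ MvPolynomial.X = c from
        funext fun a => MvPolynomial.aeval_X c a,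
      show wronskian (fPoly c) (gPoly c) = -W0 from hc, neg_add_cancel, coeff_zero]
  exact ⟨Ideal.Quotient.liftₐ I (MvPolynomial.aeval c) fun z hz => hI hz, funext fun a => MvPolynomial.aeval_X c a⟩

end GrothLib.WronskFib10
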